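import Mathlib

/-!
Automorphisms of order `p` of `k[[X]]` in characteristic `p`: the ramification break shifts orders
prime to `p`.
-/

namespace Groth.Agent.RamBreak7

universe u

open PowerSeries

variable {p : ℕ} [hp : Fact p.Prime] {k : Type u} [Field k] [CharP k p]
  (σ : PowerSeries k ≃ₐ[k] PowerSeries k)

/-- `N = ∏ σ^i X`. -/
noncomputable def normX (p : ℕ) : PowerSeries k := ∏ i ∈ Finset.range p, (σ ^ i) X

theorem X_dvd_map : X ∣ σ X := by
  rw [X_dvd_iff, ← not_ne_iff, ← isUnit_iff_ne_zero, ← isUnit_iff_constantCoeff]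
  intro h
  have := h.map σ.symm
  rw [AlgEquiv.symm_apply_apply, isUnit_iff_constantCoeff, constantCoeff_X] at this
  exact not_isUnit_zero this

theorem sigma_C (c : k) : σ (C c) = C c := σ.commutes c

theorem constantCoeff_map (w : PowerSeries k) : constantCoeff (σ w) = constantCoeff w := by
  obtain ⟨e, he⟩ := X_dvd_map σ
  obtain ⟨w', hw'⟩ : X ∣ w - C (constantCoeff w) := X_dvd_iff.mpr (by simp)
  conv_lhs => rw [eq_add_of_sub_eq hw']
  rw [map_add, map_mul, sigma_C, he]
  simp

theorem sigma_N (hσp : σ ^ p = 1) : σ (normX σ p) = normX σ p := by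
  have h1 := Finset.prod_range_succ' (fun i => (σ ^ i) (X : PowerSeries k)) p
  rw [Finset.prod_range_succ] at h1
  simp only [pow_succ', hσp, pow_zero, AlgEquiv.mul_apply] at h1
  rw [normX, map_prod]
  exact (mul_right_cancel₀ X_ne_zero h1).symm

theorem order_map_X : (σ X).order = 1 := by
  obtain ⟨e, he⟩ := X_dvd_map σ
  obtain ⟨e', he'⟩ := X_dvd_map σ.symm
  have h := congrArg σ he'
  rw [AlgEquiv.apply_symm_apply, map_mul, he, mul_assoc] at h
  have hu : IsUnit e := IsUnit.of_mul_eq_one (σ e') (mul_left_cancel₀ X_ne_zero (h.symm.trans (mul_one _).symm))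
  rw [he, order_mul, order_X, order_zero_of_unit hu, add_zero]

theorem order_normX : (normX σ p).order = p := by
  rw [normX]
  generalize p = q
  induction q with
  | zero => simp
  | succ q ih => rw [Finset.prod_range_succ, order_mul, ih, order_map_X]; rfl

variable {σ} {m : ℕ}

include hp in
theorem one_le (hσp : σ ^ p = 1) (hm : (σ X - X).order = ((m + 1 : ℕ) : ℕ∞)) : 1 ≤ m := by
  by_contra h0
  obtain rfl : m = 0 := by omega
  obtain ⟨e, he⟩ := X_dvd_map σ
  have hpow : ∀ i : ℕ, ∃ E : PowerSeries k, (σ ^ i) X = X * E ∧ constantCoeff E = constantCoeff e ^ i := by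
    intro i
    induction i with
    | zero => exact ⟨1, by simp, by simp⟩
    | succ i ih =>
      obtain ⟨E, hE, hE0⟩ := ih
      refine ⟨e * σ E, ?_, by rw [map_mul, constantCoeff_map, hE0, pow_succ']⟩
      rw [pow_succ', AlgEquiv.mul_apply, hE, map_mul, he, mul_assoc]
  obtain ⟨E, hE, hE0⟩ := hpow p
  rw [hσp, AlgEquiv.one_apply] at hE
  have hE1 : E = 1 := (mul_left_cancel₀ X_ne_zero (hE.symm.trans (mul_one _).symm))
  rw [hE1, map_one] at hE0
  have he0 : constantCoeff e - 1 = 0 := by
    apply pow_eq_zero_iff hp.out.ne_zero |>.mp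
    rw [sub_pow_char, one_pow, ← hE0, sub_self]
  obtain ⟨e', he'⟩ : X ∣ e - 1 := X_dvd_iff.mpr (by rw [map_sub, map_one, he0])
  rw [he, show X * e - X = X * (e - 1) by ring, he', order_mul, order_mul, order_X] at hm
  have : (1 : ℕ∞) + 1 ≤ 1 + (1 + e'.order) := by gcongr; exact le_self_add
  rw [hm] at this
  norm_num at this

/-- Every element moves by a multiple of `X^(m+1)`. -/
theorem dvd_sub (hm : (σ X - X).order = ((m + 1 : ℕ) : ℕ∞)) (w : PowerSeries k) :
    X ^ (m + 1) ∣ σ w - w := by
  have hX : X ^ (m + 1) ∣ σ X - X := by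
    refine X_pow_dvd_iff.mpr fun i hi => coeff_of_lt_order i ?_
    rw [hm]
    exact_mod_cast hi
  have hpoly : ∀ P : Polynomial k, X ^ (m + 1) ∣ σ (P : PowerSeries k) - (P : PowerSeries k) := by
    intro P
    induction P using Polynomial.induction_on' with
    | add P Q hP hQ =>
      rw [Polynomial.coe_add, map_add, add_sub_add_comm]
      exact _root_.dvd_add hP hQ
    | monomial j c =>
      rw [← Polynomial.C_mul_X_pow_eq_monomial, Polynomial.coe_mul, Polynomial.coe_pow, Polynomial.coe_C,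
        Polynomial.coe_X, map_mul, map_pow, sigma_C, ← mul_sub]
      exact (hX.trans (sub_dvd_pow_sub_pow _ _ _)).mul_left _
  obtain ⟨r, hr⟩ : X ^ (m + 1) ∣ w - (trunc (m + 1) w : PowerSeries k) :=
    X_pow_dvd_iff.mpr fun i hi => by
      rw [map_sub, Polynomial.coeff_coe, coeff_trunc, if_pos hi, sub_self]
  rw [eq_add_of_sub_eq hr, map_add, map_mul, map_pow, add_sub_add_comm]
  refine _root_.dvd_add (_root_.dvd_sub ((pow_dvd_pow_of_dvd (X_dvd_map σ) _).mul_right _) (dvd_mul_right _ _)) (hpoly _)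

/-- The ramification break shifts orders prime to `p`. -/
theorem order_sub_eq (hσp : σ ^ p = 1) (hm : (σ X - X).order = ((m + 1 : ℕ) : ℕ∞)) {z : PowerSeries k}
    {r : ℕ} (hz : z.order = r) (hr : ¬ p ∣ r) : (σ z - z).order = ((r + m : ℕ) : ℕ∞) := by
  have hm1 := one_le hσp hm
  have hr1 : 1 ≤ r := by
    rcases Nat.eq_zero_or_pos r with rfl | h
    · exact absurd (dvd_zero p) hr
    · exact h
  obtain ⟨e, he⟩ := X_dvd_map σ
  -- `σ X = X (1 + ε)` with `ε` of order `m`
  have hε : (e - 1).order = (m : ℕ∞) := by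
    rw [he, show X * e - X = X * (e - 1) by ring, order_mul, order_X, Nat.cast_add, Nat.cast_one,
      add_comm] at hm
    exact WithTop.add_right_cancel (ENat.coe_ne_top 1) hm
  obtain ⟨w, hw⟩ : X ^ r ∣ z := X_pow_dvd_iff.mpr fun i hi => coeff_of_lt_order i (by rw [hz]; exact_mod_cast hi)
  have hw0 : w.order = 0 := by
    rw [hw, order_mul, order_X_pow] at hz
    exact WithTop.add_left_cancel (ENat.coe_ne_top r) (hz.trans (add_zero _).symm)
  have hrk : (r : k) ≠ 0 := fun h => hr ((CharP.cast_eq_zero_iff k p r).mp h)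
  -- `e^r - 1 = (e - 1) S`, `S` a unit
  have hS : (∑ i ∈ Finset.range r, e ^ i).order = 0 := by
    refine order_zero_of_unit (isUnit_iff_constantCoeff.mpr ?_)
    have he1 : constantCoeff e = 1 := by
      have h : constantCoeff (e - 1) = 0 := by
        rw [← coeff_zero_eq_constantCoeff_apply]
        exact coeff_of_lt_order 0 (by rw [hε]; exact_mod_cast hm1)
      rwa [map_sub, map_one, sub_eq_zero] at h
    simp [map_sum, he1, isUnit_iff_ne_zero, hrk]
  have hwu : (σ w).order = 0 := order_zero_of_unit ((isUnit_iff_constantCoeff.mpr (by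
    rw [isUnit_iff_ne_zero, ← coeff_zero_eq_constantCoeff_apply]
    exact (order_eq_nat.mp hw0).1)).map σ)
  have hsplit : σ z - z = X ^ r * ((e - 1) * (∑ i ∈ Finset.range r, e ^ i) * σ w + (σ w - w)) := by
    rw [hw, map_mul, map_pow, he, mul_geom_sum]
    ring
  have h1 : ((e - 1) * (∑ i ∈ Finset.range r, e ^ i) * σ w).order = (m : ℕ∞) := by
    rw [order_mul, order_mul, hε, hS, hwu, add_zero, add_zero]
  have h2 : (m : ℕ∞) < (σ w - w).order := by
    obtain ⟨d, hd⟩ := dvd_sub hm w
    rw [hd, order_mul, order_X_pow]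
    exact lt_of_lt_of_le (by exact_mod_cast Nat.lt_succ_self m) le_self_add
  rw [hsplit, order_mul, order_X_pow, order_add_of_order_ne _ _ (by rw [h1]; exact h2.ne), h1,
    min_eq_left h2.le, Nat.cast_add]

theorem dvd_order_of_fixed (hσp : σ ^ p = 1) (hm : (σ X - X).order = ((m + 1 : ℕ) : ℕ∞)) {z : PowerSeries k}
    {r : ℕ} (hz : z.order = r) (hfix : σ z = z) : p ∣ r := by
  by_contra hr
  have := order_sub_eq hσp hm hz hr
  rw [hfix, sub_self, order_zero] at this
  exact ENat.coe_ne_top _ this.symm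

theorem dvd_iff_exists_uniformizer (hσp : σ ^ p = 1) (hm : (σ X - X).order = ((m + 1 : ℕ) : ℕ∞)) :
    p ∣ m + 1 ↔ ∃ s a : PowerSeries k, s.order = 1 ∧ σ a = a ∧ σ s = s + a := by
  haveI : CharP (Module.End k (PowerSeries k)) p :=
    charP_of_injective_algebraMap (FaithfulSMul.algebraMap_injective k (Module.End k (PowerSeries k))) p
  constructor
  swap
  · rintro ⟨s, a, hs, ha, hsa⟩
    have h1 := order_sub_eq hσp hm (z := s) (r := 1) (by rw [hs]; rfl) hp.out.not_dvd_one
    rw [hsa, add_sub_cancel_left] at h1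
    have := dvd_order_of_fixed hσp hm h1 ha
    rwa [add_comm 1 m] at this
  intro hdvd
  let T : Module.End k (PowerSeries k) := σ.toLinearMap
  let D : Module.End k (PowerSeries k) := T - 1
  have hT : ∀ i x, (T ^ i) x = (σ ^ i) x := by
    intro i
    induction i with
    | zero => exact fun x => rfl
    | succ i ih => intro x; rw [pow_succ', pow_succ', Module.End.mul_apply, ih]; rfl
  have hDp : ∀ x, (D ^ p) x = 0 := fun x => by
    rw [show D ^ p = T ^ p - 1 from by rw [show D = T - 1 from rfl, sub_pow_char_of_commute p (Commute.one_right T), one_pow],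
      LinearMap.sub_apply, hT, hσp]
    exact sub_self x
  have hord : ∀ i, i ≤ p - 2 → ((D ^ i) (X ^ (p - 1))).order = ((p - 1 + i * m : ℕ) : ℕ∞) := by
    intro i
    induction i with
    | zero => intro _; simp [order_X_pow]
    | succ i ih =>
      intro hi
      rw [pow_succ', Module.End.mul_apply]
      have := order_sub_eq hσp hm (ih (by omega)) ?_
      · rw [show p - 1 + (i + 1) * m = p - 1 + i * m + m by ring]
        exact this
      intro h
      have h2 : p ∣ (p - 1 + i * m) + (i + 1) := by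
        rw [show (p - 1 + i * m) + (i + 1) = p + i * (m + 1) by
          have := hp.out.two_le
          rw [mul_add, mul_one]; omega]
        exact dvd_add (dvd_refl p) (hdvd.mul_left i)
      have := Nat.le_of_dvd (by omega) ((Nat.dvd_add_right h).mp h2)
      omega
  set z := (D ^ (p - 2)) (X ^ (p - 1))
  have hz : z.order = ((p - 1 + (p - 2) * m : ℕ) : ℕ∞) := hord _ le_rfl
  obtain ⟨q, hq⟩ : ∃ q, p - 1 + (p - 2) * m = p * q + 1 := by
    obtain ⟨t, ht⟩ := hdvd
    have h2 := hp.out.two_le
    refine ⟨(p - 2) * t, ?_⟩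
    have : (p - 2) * m + (p - 2) = p * ((p - 2) * t) := by
      rw [← Nat.mul_succ, Nat.succ_eq_add_one, ht]; ring
    omega
  have hNq : (normX σ p ^ q).order = ((p * q : ℕ) : ℕ∞) := by
    rw [order_pow, order_normX, nsmul_eq_mul, mul_comm, Nat.cast_mul]
  obtain ⟨u, hu⟩ : X ^ (p * q) ∣ normX σ p ^ q :=
    X_pow_dvd_iff.mpr fun i hi => coeff_of_lt_order i (by rw [hNq]; exact_mod_cast hi)
  have huu : IsUnit u := by
    rw [isUnit_iff_constantCoeff, isUnit_iff_ne_zero, ← coeff_zero_eq_constantCoeff_apply]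
    rw [hu, order_mul, order_X_pow] at hNq
    exact (order_eq_nat.mp (WithTop.add_left_cancel (ENat.coe_ne_top _) (hNq.trans (add_zero _).symm) : u.order = ((0 : ℕ) : ℕ∞))).1
  obtain ⟨s, hs⟩ : normX σ p ^ q ∣ z := by
    rw [hu, huu.mul_right_dvd]
    refine X_pow_dvd_iff.mpr fun i hi => coeff_of_lt_order i ?_
    rw [hz]
    exact_mod_cast (by omega : i < p - 1 + (p - 2) * m)
  refine ⟨s, σ s - s, ?_, ?_, (add_sub_cancel s (σ s)).symm⟩
  · rw [hs, order_mul, hNq, hq, Nat.cast_add, Nat.cast_one] at hz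
    exact WithTop.add_left_cancel (ENat.coe_ne_top _) hz
  · have hN : σ (normX σ p ^ q) = normX σ p ^ q := by rw [map_pow, sigma_N σ hσp]
    have hD2 : σ (σ z - z) - (σ z - z) = 0 := by
      have := hDp (X ^ (p - 1))
      rw [show D ^ p = D * (D * D ^ (p - 2)) by
          rw [← pow_succ', ← pow_succ']; congr 1; have := hp.out.two_le; omega,
        Module.End.mul_apply, Module.End.mul_apply] at this
      simpa [z, D, T] using this
    rw [hs, map_mul, hN, ← mul_sub, map_mul, hN, ← mul_sub, mul_eq_zero] at hD2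
    refine sub_eq_zero.mp (hD2.resolve_left fun h => ?_)
    rw [h, order_zero] at hNq
    exact ENat.coe_ne_top _ hNq.symm

/-- The conductor of an Artin–Schreier equation with pole order prime to `p` is the break. -/
theorem conductor_eq (hσp : σ ^ p = 1) (hm : (σ X - X).order = ((m + 1 : ℕ) : ℕ∞))
    {f : PowerSeries k} (hfσ : σ f = f) (hf0 : constantCoeff f ≠ 0) {μ : ℕ} (hμ : 0 < μ) (hpμ : ¬ p ∣ μ)
    {z : FractionRing (PowerSeries k)}
    (hz : z ^ p - z = algebraMap (PowerSeries k) (FractionRing (PowerSeries k)) f /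
      algebraMap (PowerSeries k) (FractionRing (PowerSeries k)) (normX σ p) ^ μ) :
    μ = m := by
  haveI : CharP (PowerSeries k) p := charP_of_injective_algebraMap
    (FaithfulSMul.algebraMap_injective k (PowerSeries k)) p
  have hp2 := hp.out.two_le
  set N := normX σ p with hN
  have hNσ : σ N = N := sigma_N σ hσp
  set ι := algebraMap (PowerSeries k) (FractionRing (PowerSeries k))
  have hN0 : N ≠ 0 := fun h => by
    have := order_normX σ (p := p)
    rw [← hN, h, order_zero] at this
    exact ENat.coe_ne_top _ this.symm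
  have hι : Function.Injective ι := IsFractionRing.injective _ _
  have hNι : ι N ^ μ ≠ 0 := pow_ne_zero _ ((map_ne_zero_iff _ hι).mpr hN0)
  have hrel : (z * ι N ^ μ) ^ p = (z * ι N ^ μ) * ι (N ^ (μ * (p - 1))) + ι (f * N ^ (μ * (p - 1))) := by
    have h1 : z ^ p = z + ι f / ι N ^ μ := eq_add_of_sub_eq' hz
    rw [mul_pow, h1, map_pow, map_mul, map_pow, ← pow_mul, show μ * p = μ + μ * (p - 1) by
      conv_lhs => rw [show p = 1 + (p - 1) by omega, mul_add, mul_one], pow_add]
    field_simp
  have hint : IsIntegral (PowerSeries k) (z * ι N ^ μ) := by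
    refine ⟨Polynomial.X ^ p - (Polynomial.C (N ^ (μ * (p - 1))) * Polynomial.X +
      Polynomial.C (f * N ^ (μ * (p - 1)))), Polynomial.monic_X_pow_sub ?_, ?_⟩
    · exact lt_of_le_of_lt Polynomial.degree_linear_le (by exact_mod_cast hp.out.one_lt)
    · simp only [Polynomial.eval₂_sub, Polynomial.eval₂_pow, Polynomial.eval₂_X, Polynomial.eval₂_add,
        Polynomial.eval₂_mul, Polynomial.eval₂_C]
      rw [hrel]
      ring
  obtain ⟨a, ha⟩ := IsIntegrallyClosed.isIntegral_iff.mp hint
  have hrel' : a ^ p = a * N ^ (μ * (p - 1)) + f * N ^ (μ * (p - 1)) := hι (by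
    rw [map_pow, map_add, map_mul, ha]
    exact hrel)
  have hfo : f.order = 0 := order_zero_of_unit (isUnit_iff_constantCoeff.mpr (isUnit_iff_ne_zero.mpr hf0))
  have hNo : ∀ j, (N ^ j).order = ((p * j : ℕ) : ℕ∞) := fun j => by
    rw [order_pow, hN, order_normX, nsmul_eq_mul, mul_comm, Nat.cast_mul]
  obtain ⟨d, hd⟩ : ∃ d : ℕ, a.order = d := by
    refine ⟨_, (ENat.coe_toNat fun h => ?_).symm⟩
    rw [order_eq_top] at h
    rw [h, zero_pow hp.out.ne_zero, zero_mul, zero_add] at hrel'
    have := congrArg PowerSeries.order hrel'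
    rw [order_zero, order_mul, hfo, zero_add, hNo] at this
    exact ENat.coe_ne_top _ this.symm
  have hap : (a ^ p).order = ((p * d : ℕ) : ℕ∞) := by
    rw [order_pow, hd, nsmul_eq_mul, Nat.cast_mul]
  have hd' : d = μ * (p - 1) := by
    set E := μ * (p - 1) with hE
    have h1 : (a * N ^ E).order = ((d + p * E : ℕ) : ℕ∞) := by rw [order_mul, hd, hNo, Nat.cast_add]
    have h2 : (f * N ^ E).order = ((p * E : ℕ) : ℕ∞) := by rw [order_mul, hfo, hNo, zero_add]
    have hE1 : 0 < E := Nat.mul_pos hμ (by omega)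
    rcases Nat.eq_zero_or_pos d with rfl | hd1
    · have := min_order_le_order_add (a * N ^ E) (f * N ^ E)
      rw [← hrel', hap, h1, h2] at this
      simp only [mul_zero, zero_add, min_self] at this
      have h3 : p * E ≤ 0 := by exact_mod_cast this
      have := Nat.mul_pos hp.out.pos hE1
      omega
    have hne : (a * N ^ E).order ≠ (f * N ^ E).order := by
      rw [h1, h2, Ne, Nat.cast_inj]; omega
    have h3 := congrArg PowerSeries.order hrel'
    rw [hap, order_add_of_order_ne _ _ hne, h1, h2, min_eq_right (by exact_mod_cast Nat.le_add_left _ _), Nat.cast_inj] at h3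
    exact Nat.eq_of_mul_eq_mul_left hp.out.pos h3
  have hdp : ¬ p ∣ d := by
    rw [hd']
    intro h
    rcases hp.out.dvd_mul.mp h with h | h
    · exact hpμ h
    · have := Nat.le_of_dvd (by omega) h; omega
  have hrelσ : (σ a) ^ p = σ a * N ^ (μ * (p - 1)) + f * N ^ (μ * (p - 1)) := by
    have := congrArg σ hrel'
    simpa only [map_pow, map_add, map_mul, hfσ, hNσ] using this
  have he : (σ a - a).order = ((d + m : ℕ) : ℕ∞) := order_sub_eq hσp hm hd hdp
  have he0 : σ a - a ≠ 0 := fun h => by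
    rw [h, order_zero] at he
    exact ENat.coe_ne_top _ he.symm
  have he1 : (σ a - a) ^ (p - 1) = N ^ (μ * (p - 1)) := by
    refine mul_left_cancel₀ he0 ?_
    rw [← pow_succ', show p - 1 + 1 = p by omega, sub_pow_char, hrel', hrelσ]
    ring
  have h4 := congrArg PowerSeries.order he1
  rw [order_pow, he, hNo, nsmul_eq_mul, ← Nat.cast_mul, Nat.cast_inj, ← mul_assoc, mul_comm (p - 1)] at h4
  have h5 : d + m = p * μ := Nat.eq_of_mul_eq_mul_right (by omega) h4
  rw [hd'] at h5
  have : μ * (p - 1) + μ = p * μ := by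
    rw [← Nat.mul_succ, mul_comm p μ]; congr 1; omega
  omega

end Groth.Agent.RamBreak7
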